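import Groth.Agent.HenselLib.HullProps
import Groth.Agent.CAlgSmall.UnibranchHull
import Groth.Prelude.Def_CAlgX

/-!
# Henselizations which are domains
-/

set_option autoImplicit false

universe u

namespace Groth.Agent.EGA43.UnibranchHens

open Groth.Agent.HenselLib IsLocalRing

theorem isDomain_iff {S : Type u} [CommRing S] :
    IsDomain S ↔ IsReduced S ∧ CAlgX.HasUniqueMinimalPrime S := by
  constructor
  · intro h
    refine ⟨inferInstance, ⊥, ?_, fun q hq => ?_⟩
    · show (⊥ : Ideal S) ∈ minimalPrimes S
      rw [IsDomain.minimalPrimes_eq_singleton_bot]; rfl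
    · have hq' : q ∈ minimalPrimes S := hq
      rw [IsDomain.minimalPrimes_eq_singleton_bot] at hq'; exact hq'
  · rintro ⟨hred, p, hp, huniq⟩
    haveI : p.IsPrime := Ideal.IsMinimalPrime.isPrime hp
    have h0 : p = ⊥ := by
      rw [← Ideal.zero_eq_bot, ← nilradical_eq_zero S, nilradical]
      refine le_antisymm ?_ ((Ideal.IsPrime.isRadical ‹p.IsPrime›).radical_le_iff.2 bot_le)
      rw [← Ideal.sInf_minimalPrimes]
      exact le_sInf fun q hq => (huniq q hq).ge
    subst h0
    exact IsDomain.of_bot_isPrime S

theorem isReduced_hull_iff {R : Type u} [CommRing R] {K : Type u} [Field K] [Algebra R K]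
    (S : Type u) [CommRing S] [Algebra R S] (e : Hull R K ≃ₐ[R] S) [Module.FaithfullyFlat R S] :
    IsReduced S ↔ IsReduced R := by
  constructor
  · intro _
    exact isReduced_of_injective (algebraMap R S) (FaithfulSMul.algebraMap_injective _ _)
  · intro _
    haveI : IsReduced (Hull R K) := by
      refine nilradical_eq_bot_iff.mp ?_
      rw [← map_nilradical_hull, nilradical_eq_zero R, Ideal.zero_eq_bot, Ideal.map_bot]
    exact isReduced_of_injective e.symm e.symm.injective

end Groth.Agent.EGA43.UnibranchHens
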